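import Mathlib
import Cfsg.Prelude.Def_ClassicalGeometry
import Cfsg.Agent.Lib.helper6.Symp
import Cfsg.Agent.Lib.Helper24.ElH

set_option autoImplicit false

/-!
# Project S5955: definitions (abstract symplectic context for elements of prime order)
-/

namespace Cfsg.Agent.Lib.Helper13.S5955

open Polynomial Module

variable {F : Type*} [Field F] {V : Type*} [AddCommGroup V] [Module F V]

/-- `W` is totally isotropic for `B` -/
def STI (B : LinearMap.BilinForm F V) (W : Submodule F V) : Prop :=
  ∀ u ∈ W, ∀ v ∈ W, B u v = 0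

/-- `B` is non-degenerate on `N` -/
def SND (B : LinearMap.BilinForm F V) (N : Submodule F V) : Prop :=
  ∀ u ∈ N, (∀ v ∈ N, B u v = 0) → u = 0

/-- `U` and `W` are orthogonal for `B` -/
def SOrth (B : LinearMap.BilinForm F V) (U W : Submodule F V) : Prop :=
  ∀ u ∈ U, ∀ w ∈ W, B u w = 0

/-- `W` is `x`-invariant (same as helper24's `ElInv`) -/
abbrev SInv (x : Module.End F V) (W : Submodule F V) : Prop :=
  Cfsg.Agent.Lib.Helper24.ElInv x W

/-- the fixed space `ker (x - 1)` (in helper24's normal form) -/
noncomputable def fixS (x : Module.End F V) : Submodule F V :=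
  LinearMap.ker (aeval x (X - 1 : F[X]))

/-- the cyclotomic part `ker Φ_r(x)` (in helper24's normal form) -/
noncomputable def cycS (r : ℕ) (x : Module.End F V) : Submodule F V :=
  LinearMap.ker (aeval x (cyclotomic r F))

/-- the abstract context: `B` alternating non-degenerate, `x` an isometry with `x ^ r = 1` -/
structure SCtx (r : ℕ) (B : LinearMap.BilinForm F V) (x : Module.End F V) : Prop where
  alt : ∀ v, B v v = 0
  nd : ∀ u, (∀ v, B u v = 0) → u = 0
  pres : ∀ u v, B (x u) (x v) = B u v
  pow : x ^ r = 1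

/-- the standard symplectic form of the Prelude as a Mathlib bilinear form -/
noncomputable def stdB (d : ℕ) (F : Type*) [Field F] :
    LinearMap.BilinForm F (Fin d ⊕ Fin d → F) :=
  LinearMap.mk₂ F (Cfsg.sympForm d F)
    (fun u u' v => Cfsg.Agent.Lib.helper6.sympForm_add_left d u u' v)
    (fun c u v => by rw [Cfsg.Agent.Lib.helper6.sympForm_smul_left, smul_eq_mul])
    (fun u v v' => Cfsg.Agent.Lib.helper6.sympForm_add_right d u v v')
    (fun c u v => by rw [Cfsg.Agent.Lib.helper6.sympForm_smul_right, smul_eq_mul])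

theorem stdB_apply (d : ℕ) (u v : Fin d ⊕ Fin d → F) :
    stdB d F u v = Cfsg.sympForm d F u v := rfl

/-- the set of totally isotropic `m`-spaces of the standard space, as in the frozen statement -/
abbrev TIm (d m : ℕ) (F : Type*) [Field F] : Type _ :=
  {W : Submodule F (Fin d ⊕ Fin d → F) //
    Module.finrank F ↥W = m ∧ (∀ u ∈ W, ∀ v ∈ W, Cfsg.sympForm d F u v = 0)}

end Cfsg.Agent.Lib.Helper13.S5955
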