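import Mathlib
import Cfsg.Agent.Lib.Helper13.S5955.Defs

set_option autoImplicit false

/-!
# Project S5955: orthogonal sums of standard symplectic spaces (for the bad elements)
-/

namespace Cfsg.Agent.Lib.Helper13.S5955

open Polynomial Module

/-- the orthogonal sum of `A` copies of the standard `2h`-space and one standard `2w`-space -/
abbrev OSum (F : Type*) [Field F] (A h w : ℕ) : Type _ :=
  (Fin A → (Fin h ⊕ Fin h → F)) × (Fin w ⊕ Fin w → F)

/-- the orthogonal sum form -/
noncomputable def osumB (F : Type*) [Field F] (A h w : ℕ) :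
    LinearMap.BilinForm F (OSum F A h w) :=
  LinearMap.mk₂ F
    (fun u v => ∑ a, Cfsg.sympForm h F (u.1 a) (v.1 a) + Cfsg.sympForm w F u.2 v.2)
    (fun u u' v => by
      simp only [Prod.fst_add, Prod.snd_add, Pi.add_apply,
        Cfsg.Agent.Lib.helper6.sympForm_add_left, Finset.sum_add_distrib]
      ring)
    (fun c u v => by
      simp only [Prod.smul_fst, Prod.smul_snd, Pi.smul_apply,
        Cfsg.Agent.Lib.helper6.sympForm_smul_left, smul_eq_mul, ← Finset.mul_sum]
      ring)
    (fun u v v' => by
      simp only [Prod.fst_add, Prod.snd_add, Pi.add_apply,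
        Cfsg.Agent.Lib.helper6.sympForm_add_right, Finset.sum_add_distrib]
      ring)
    (fun c u v => by
      simp only [Prod.smul_fst, Prod.smul_snd, Pi.smul_apply,
        Cfsg.Agent.Lib.helper6.sympForm_smul_right, smul_eq_mul, ← Finset.mul_sum]
      ring)

theorem osumB_apply {F : Type*} [Field F] (A h w : ℕ) (u v : OSum F A h w) :
    osumB F A h w u v =
      ∑ a, Cfsg.sympForm h F (u.1 a) (v.1 a) + Cfsg.sympForm w F u.2 v.2 := rfl

/-- the block-diagonal map `(y_a)_a ⊕ 1` -/
noncomputable def osumX {F : Type*} [Field F] {A h : ℕ} (w : ℕ)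
    (y : Fin A → Module.End F (Fin h ⊕ Fin h → F)) : Module.End F (OSum F A h w) :=
  LinearMap.prodMap (LinearMap.pi (fun a => (y a).comp (LinearMap.proj a))) LinearMap.id

theorem osumX_apply {F : Type*} [Field F] {A h : ℕ} (w : ℕ)
    (y : Fin A → Module.End F (Fin h ⊕ Fin h → F)) (u : OSum F A h w) :
    osumX w y u = (fun a => y a (u.1 a), u.2) := rfl

/-- `m` is the dimension of some totally isotropic invariant subspace -/
def TId {F : Type*} [Field F] {V : Type*} [AddCommGroup V] [Module F V]
    (B : LinearMap.BilinForm F V) (x : Module.End F V) (m : ℕ) : Prop :=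
  ∃ W : Submodule F V, SInv x W ∧ STI B W ∧ Module.finrank F W = m

end Cfsg.Agent.Lib.Helper13.S5955
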